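import Groth.Agent.L20.Pinch.Ring
import Mathlib.RingTheory.Flat.Basic
import Mathlib.RingTheory.Flat.Equalizer
import Mathlib.LinearAlgebra.TensorProduct.RightExactness
import Mathlib.Algebra.Category.Ring.Constructions
import Mathlib.AlgebraicGeometry.Pullbacks

/-!
# Base change of fibre products of rings along a surjection
-/

universe u

open TensorProduct CategoryTheory AlgebraicGeometry

set_option linter.style.haveILetI false
set_option backward.isDefEq.respectTransparency.types false

namespace Groth.L24.PinchBC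

open Groth.L20.Pinch
open Groth.L09.Patch (sp sp_comp)

variable {R R' T T1 T2 T0 : Type u} [CommRing R] [CommRing R'] [CommRing T] [CommRing T1] [CommRing T2]
  [CommRing T0] [Algebra R R'] [Algebra R T] [Algebra R T1] [Algebra R T2] [Algebra R T0]
  (φ1 : T →ₐ[R] T1) (φ2 : T →ₐ[R] T2) (ψ1 : T1 →ₐ[R] T0) (ψ2 : T2 →ₐ[R] T0)

/-- The map into the product. -/
abbrev diag : T →ₗ[R] T1 × T2 := LinearMap.prod φ1.toLinearMap φ2.toLinearMap

/-- The difference map. -/
abbrev diff : T1 × T2 →ₗ[R] T0 :=
  ψ1.toLinearMap ∘ₗ LinearMap.fst R T1 T2 - ψ2.toLinearMap ∘ₗ LinearMap.snd R T1 T2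

variable {φ1 φ2 ψ1 ψ2}

theorem injective_diag (h : IsFib φ1.toRingHom φ2.toRingHom ψ1.toRingHom ψ2.toRingHom) :
    Function.Injective (diag φ1 φ2) :=
  fun _ _ hab => h.ext (congrArg Prod.fst hab) (congrArg Prod.snd hab)

theorem surjective_diff (h : IsFib φ1.toRingHom φ2.toRingHom ψ1.toRingHom ψ2.toRingHom) :
    Function.Surjective (diff ψ1 ψ2) := fun z => by
  obtain ⟨y, rfl⟩ := h.surj z
  exact ⟨(0, -y), by simp⟩

theorem exact_diag_diff (h : IsFib φ1.toRingHom φ2.toRingHom ψ1.toRingHom ψ2.toRingHom) :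
    Function.Exact (diag φ1 φ2) (diff ψ1 ψ2) := fun p => by
  constructor
  · intro hp
    obtain ⟨t, h1, h2⟩ := h.glue p.1 p.2 (sub_eq_zero.mp hp)
    exact ⟨t, Prod.ext h1 h2⟩
  · rintro ⟨t, rfl⟩
    exact sub_eq_zero.mpr (h.comm_apply t)

variable (R') in
/-- A fibre product along a surjection stays one after a base change keeping it injective. -/
theorem isFib_baseChange (h : IsFib φ1.toRingHom φ2.toRingHom ψ1.toRingHom ψ2.toRingHom)
    (hinj : Function.Injective (LinearMap.lTensor R' (diag φ1 φ2))) :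
    IsFib (Algebra.TensorProduct.map (AlgHom.id R R') φ1).toRingHom
      (Algebra.TensorProduct.map (AlgHom.id R R') φ2).toRingHom
      (Algebra.TensorProduct.map (AlgHom.id R R') ψ1).toRingHom
      (Algebra.TensorProduct.map (AlgHom.id R R') ψ2).toRingHom := by
  have m1 : ∀ x, Algebra.TensorProduct.map (AlgHom.id R R') φ1 x = LinearMap.lTensor R' φ1.toLinearMap x :=
    fun x => rfl
  have m2 : ∀ x, Algebra.TensorProduct.map (AlgHom.id R R') φ2 x = LinearMap.lTensor R' φ2.toLinearMap x :=
    fun x => rfl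
  have c1 : LinearMap.fst R T1 T2 ∘ₗ diag φ1 φ2 = φ1.toLinearMap := rfl
  have c2 : LinearMap.snd R T1 T2 ∘ₗ diag φ1 φ2 = φ2.toLinearMap := rfl
  have hsplit : ∀ y : R' ⊗[R] (T1 × T2), LinearMap.lTensor R' (LinearMap.inl R T1 T2)
        (LinearMap.lTensor R' (LinearMap.fst R T1 T2) y) +
      LinearMap.lTensor R' (LinearMap.inr R T1 T2) (LinearMap.lTensor R' (LinearMap.snd R T1 T2) y) = y := by
    intro y
    rw [← LinearMap.lTensor_comp_apply, ← LinearMap.lTensor_comp_apply, ← LinearMap.add_apply,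
      ← LinearMap.lTensor_add,
      show LinearMap.inl R T1 T2 ∘ₗ LinearMap.fst R T1 T2 + LinearMap.inr R T1 T2 ∘ₗ LinearMap.snd R T1 T2
        = LinearMap.id from LinearMap.ext fun p => by simp, LinearMap.lTensor_id, LinearMap.id_apply]
  refine ⟨?_, fun t h1 h2 => ?_, fun x y hxy => ?_, LinearMap.lTensor_surjective R' (g := ψ2.toLinearMap) h.surj⟩
  · have hc : ψ1.comp φ1 = ψ2.comp φ2 := AlgHom.ext fun t => h.comm_apply t
    have key := (Algebra.TensorProduct.map_comp (AlgHom.id R R') (AlgHom.id R R') ψ1 φ1).symm.trans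
      ((congrArg (Algebra.TensorProduct.map _) hc).trans
        (Algebra.TensorProduct.map_comp (AlgHom.id R R') (AlgHom.id R R') ψ2 φ2))
    exact congrArg AlgHom.toRingHom key
  · apply hinj
    have k1 : LinearMap.lTensor R' (LinearMap.fst R T1 T2) (LinearMap.lTensor R' (diag φ1 φ2) t) = 0 := by
      rw [← LinearMap.lTensor_comp_apply]; exact h1
    have k2 : LinearMap.lTensor R' (LinearMap.snd R T1 T2) (LinearMap.lTensor R' (diag φ1 φ2) t) = 0 := by
      rw [← LinearMap.lTensor_comp_apply]; exact h2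
    rw [map_zero, ← hsplit (LinearMap.lTensor R' (diag φ1 φ2) t), k1, k2, map_zero, map_zero, add_zero]
  · let z : R' ⊗[R] (T1 × T2) :=
      LinearMap.lTensor R' (LinearMap.inl R T1 T2) x + LinearMap.lTensor R' (LinearMap.inr R T1 T2) y
    have hz : LinearMap.lTensor R' (diff ψ1 ψ2) z = 0 := by
      have e1 : diff ψ1 ψ2 ∘ₗ LinearMap.inl R T1 T2 = ψ1.toLinearMap := LinearMap.ext fun a => by simp
      have e2 : diff ψ1 ψ2 ∘ₗ LinearMap.inr R T1 T2 = -ψ2.toLinearMap := LinearMap.ext fun a => by simp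
      simp only [z, map_add, ← LinearMap.lTensor_comp_apply, e1, e2, LinearMap.lTensor_neg,
        LinearMap.neg_apply]
      exact add_neg_eq_zero.mpr hxy
    obtain ⟨w, hw⟩ := ((lTensor_exact R' (exact_diag_diff h) (surjective_diff h)) z).mp hz
    refine ⟨w, ?_, ?_⟩
    · show Algebra.TensorProduct.map (AlgHom.id R R') φ1 w = x
      rw [m1, ← c1, LinearMap.lTensor_comp_apply, hw]
      simp only [z, map_add, ← LinearMap.lTensor_comp_apply, LinearMap.fst_comp_inl, LinearMap.fst_comp_inr,
        LinearMap.lTensor_id, LinearMap.lTensor_zero, LinearMap.id_apply, LinearMap.zero_apply, add_zero]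
    · show Algebra.TensorProduct.map (AlgHom.id R R') φ2 w = y
      rw [m2, ← c2, LinearMap.lTensor_comp_apply, hw]
      simp only [z, map_add, ← LinearMap.lTensor_comp_apply, LinearMap.snd_comp_inl, LinearMap.snd_comp_inr,
        LinearMap.lTensor_id, LinearMap.lTensor_zero, LinearMap.id_apply, LinearMap.zero_apply, zero_add]

variable (R') in
theorem injective_of_flat (h : IsFib φ1.toRingHom φ2.toRingHom ψ1.toRingHom ψ2.toRingHom) [Module.Flat R T0] :
    Function.Injective (LinearMap.lTensor R' (diag φ1 φ2)) :=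
  LinearMap.lTensor_injective_of_exact_of_flat (diff ψ1 ψ2) (surjective_diff h) (diag φ1 φ2)
    (injective_diag h) (exact_diag_diff h) R'

variable (R') in
/-- The spectrum of a base-changed algebra map is a base change. -/
theorem isPullback_spec_map {T T1 : Type u} [CommRing T] [CommRing T1] [Algebra R T] [Algebra R T1]
    (φ : T →ₐ[R] T1) :
    IsPullback (sp (Algebra.TensorProduct.map (AlgHom.id R R') φ).toRingHom)
      (sp (Algebra.TensorProduct.includeRight (R := R) (A := R') (B := T1)).toRingHom)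
      (sp (Algebra.TensorProduct.includeRight (R := R) (A := R') (B := T)).toRingHom) (sp φ.toRingHom) := by
  have hT := isPullback_SpecMap_of_isPushout _ _ _ _ (CommRingCat.isPushout_tensorProduct R R' T)
  have hT1 := isPullback_SpecMap_of_isPushout _ _ _ _ (CommRingCat.isPushout_tensorProduct R R' T1)
  refine IsPullback.of_right (h₁₂ := sp (Algebra.TensorProduct.includeLeftRingHom : R' →+* R' ⊗[R] T))
    (h₂₂ := sp (algebraMap R T)) ?_ ?_ hT
  · rw [sp_comp, sp_comp]
    have e1 : (Algebra.TensorProduct.map (AlgHom.id R R') φ).toRingHom.comp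
        Algebra.TensorProduct.includeLeftRingHom = Algebra.TensorProduct.includeLeftRingHom :=
      RingHom.ext fun r => by simp
    have e2 : φ.toRingHom.comp (algebraMap R T) = algebraMap R T1 := φ.comp_algebraMap
    rw [e1, e2]
    exact hT1
  · rw [sp_comp, sp_comp]
    congr 1

end Groth.L24.PinchBC
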