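import Groth.Agent.L20.Pinch.Cases
import Groth.Agent.L24.PinchBC.Alg
import Mathlib.AlgebraicGeometry.Morphisms.Affine
import Mathlib.AlgebraicGeometry.PullbackCarrier
import Mathlib.RingTheory.Flat.Basic
import Mathlib.LinearAlgebra.TensorProduct.Prod

/-!
# Standard pinches and cartesian squares of base changes
-/

universe u

open CategoryTheory Limits AlgebraicGeometry TensorProduct

set_option linter.style.haveILetI false
set_option backward.isDefEq.respectTransparency.types false

namespace Groth.L24.PinchBC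

open Groth.L20.Pinch

variable {X Y Z P : Scheme.{u}} {i : Z ⟶ X} {j : Z ⟶ Y} {a : X ⟶ P} {b : Y ⟶ P} [IsClosedImmersion i]

theorem std_of_isAffineHom (w : i ≫ a = j ≫ b) [IsAffineHom a] [IsAffineHom b] : Std i j := fun y => by
  obtain ⟨W, hW, hy, -⟩ := exists_isAffineOpen_mem_and_subset (X := P) (x := b y) (U := ⊤)
    (TopologicalSpace.Opens.mem_top _)
  refine ⟨⟨a ⁻¹ᵁ W, b ⁻¹ᵁ W, hW.preimage a, hW.preimage b, ?_⟩, hy⟩
  show (i ≫ a) ⁻¹ᵁ W = (j ≫ b) ⁻¹ᵁ W
  rw [w]

theorem std_of_isAffineHom_left (w : i ≫ a = j ≫ b) [IsAffineHom a] [IsIntegralHom j] : Std i j :=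
  std_of_isIntegralHom fun y => by
    obtain ⟨W, hW, hy, -⟩ := exists_isAffineOpen_mem_and_subset (X := P) (x := b y) (U := ⊤)
      (TopologicalSpace.Opens.mem_top _)
    refine ⟨a ⁻¹ᵁ W, hW.preimage a, fun z hz => ?_⟩
    show (i ≫ a) z ∈ W
    rw [w, Scheme.Hom.comp_apply, show j z = y from hz]
    exact hy

theorem isPullback_pullbackMap {X P S S' : Scheme.{u}} (f : X ⟶ P) (q : P ⟶ S) (g : S' ⟶ S) :
    IsPullback (pullback.map (f ≫ q) g q g f (𝟙 S') (𝟙 S) (Category.comp_id _)
      ((Category.comp_id g).trans (Category.id_comp g).symm)) (pullback.fst (f ≫ q) g) (pullback.fst q g) f := by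
  refine IsPullback.of_right ?_ (pullback.lift_fst _ _ _) (IsPullback.of_hasPullback q g).flip
  rw [show pullback.map (f ≫ q) g q g f (𝟙 S') (𝟙 S) _ _ ≫ pullback.snd q g = pullback.snd (f ≫ q) g from
    (pullback.lift_snd _ _ _).trans (Category.comp_id _)]
  exact (IsPullback.of_hasPullback (f ≫ q) g).flip

theorem isPullback_overMap {S S' : Scheme.{u}} (g : S' ⟶ S) {X P : Over S} (φ : X ⟶ P) :
    IsPullback ((Over.pullback g).map φ).left (pullback.fst X.hom g) (pullback.fst P.hom g) φ.left := by
  refine IsPullback.of_right ?_ (pullback.lift_fst _ _ _) (IsPullback.of_hasPullback P.hom g).flip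
  have h : ((Over.pullback g).map φ).left ≫ pullback.snd P.hom g = pullback.snd X.hom g := pullback.lift_snd _ _ _
  rw [h, Over.w φ]
  exact (IsPullback.of_hasPullback X.hom g).flip

variable {R T T1 T2 T0 : Type u} [CommRing R] [CommRing T] [CommRing T1] [CommRing T2]
  [CommRing T0] [Algebra R T] [Algebra R T1] [Algebra R T2] [Algebra R T0]
  {φ1 : T →ₐ[R] T1} {φ2 : T →ₐ[R] T2} {ψ1 : T1 →ₐ[R] T0} {ψ2 : T2 →ₐ[R] T0}

/-- A product of two flat modules is flat. -/
theorem flat_prod' {M N : Type u} [AddCommGroup M] [Module R M] [AddCommGroup N] [Module R N]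
    [Module.Flat R M] [Module.Flat R N] : Module.Flat R (M × N) := by
  rw [Module.Flat.iff_rTensor_preserves_injective_linearMap]
  intro P Q _ _ _ _ f hf
  have h : f.rTensor (M × N) = (TensorProduct.prodRight R R Q M N).symm.toLinearMap ∘ₗ
      ((f.rTensor M).prodMap (f.rTensor N)) ∘ₗ (TensorProduct.prodRight R R P M N).toLinearMap := by
    refine TensorProduct.ext' fun x y => (TensorProduct.prodRight R R Q M N).injective ?_
    simp
  rw [h]
  exact (TensorProduct.prodRight R R Q M N).symm.injective.comp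
    ((Prod.map_injective.mpr ⟨Module.Flat.rTensor_preserves_injective_linearMap f hf,
      Module.Flat.rTensor_preserves_injective_linearMap f hf⟩).comp (TensorProduct.prodRight R R P M N).injective)

/-- A fibre product of flat algebras over a flat one is flat. -/
theorem flat_of_isFib (h : IsFib φ1.toRingHom φ2.toRingHom ψ1.toRingHom ψ2.toRingHom)
    [Module.Flat R T1] [Module.Flat R T2] [Module.Flat R T0] : Module.Flat R T := by
  haveI : Module.Flat R (T1 × T2) := flat_prod'
  rw [Module.Flat.iff_rTensor_preserves_injective_linearMap]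
  intro M N _ _ _ _ f hf
  have h1 : Function.Injective (LinearMap.lTensor M (diag φ1 φ2)) :=
    LinearMap.lTensor_injective_of_exact_of_flat (diff ψ1 ψ2) (surjective_diff h) (diag φ1 φ2)
      (injective_diag h) (exact_diag_diff h) M
  have h2 : Function.Injective (LinearMap.rTensor (T1 × T2) f) :=
    Module.Flat.rTensor_preserves_injective_linearMap f hf
  have e : LinearMap.lTensor N (diag φ1 φ2) ∘ₗ LinearMap.rTensor T f =
      LinearMap.rTensor (T1 × T2) f ∘ₗ LinearMap.lTensor M (diag φ1 φ2) :=
    (LinearMap.lTensor_comp_rTensor ..).trans (LinearMap.rTensor_comp_lTensor ..).symm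
  intro x y hxy
  exact h1 (h2 (by simpa [← LinearMap.comp_apply, ← e] using congrArg (LinearMap.lTensor N (diag φ1 φ2)) hxy))

end Groth.L24.PinchBC
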