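import Groth.Agent.L24.PinchBC.Basic
import Groth.Agent.L24.PinchBC.Std

/-!
# Flatness of a pinched scheme over a base
-/

universe u

open CategoryTheory Limits AlgebraicGeometry

set_option linter.style.haveILetI false
set_option backward.isDefEq.respectTransparency.types false

namespace Groth.L24.PinchBC

open Groth.L20.Pinch
open Groth.L09.Patch (sp sp_comp)

variable {X Y Z P S : Scheme.{u}} {i : Z ⟶ X} {j : Z ⟶ Y} {a : X ⟶ P} {b : Y ⟶ P} [IsClosedImmersion i]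

/-- A pinched scheme is flat over the base if the three pieces are. -/
theorem flat_of_isPinch (h : IsPinch i j a b) (q : P ⟶ S) [Flat (a ≫ q)] [Flat (b ≫ q)]
    [Flat ((i ≫ a) ≫ q)] : Flat q := by
  choose W hW hpW _ using fun p : P => exists_isAffineOpen_mem_and_subset (X := S) (x := q p)
    (U := ⊤) (TopologicalSpace.Opens.mem_top _)
  choose k u hu hp hX hY _ _ hle using fun p => h.exists_chart_le (q ⁻¹ᵁ W p) p (hpW p)
  let 𝒰 : P.OpenCover :=
    { I₀ := P
      X := fun p => (k p).spec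
      f := u
      mem₀ := (Scheme.ofArrows_mem_precoverage_iff _).mpr ⟨fun p => ⟨p, hp p⟩, hu⟩ }
  refine IsZariskiLocalAtSource.of_openCover (P := @Flat) 𝒰 fun p => ?_
  show Flat (u p ≫ q)
  haveI := hu p
  have hr : Set.range (u p ≫ q) ⊆ Set.range (hW p).fromSpec := by
    rw [(hW p).range_fromSpec]; rintro _ ⟨s, rfl⟩; exact hle p ⟨s, rfl⟩
  let g := IsOpenImmersion.lift (hW p).fromSpec (u p ≫ q) hr
  have hg : g ≫ (hW p).fromSpec = u p ≫ q := IsOpenImmersion.lift_fac _ _ hr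
  let ρ : Γ(S, W p) →+* (k p).R := (Spec.preimage g).hom
  have hρ : u p ≫ q = sp ρ ≫ (hW p).fromSpec := by
    show _ = Spec.map (Spec.preimage g) ≫ _
    rw [Spec.map_preimage, hg]
  have f1 : ((k p).p1.comp ρ).Flat := by
    refine (HasRingHomProperty.Spec_iff (P := @Flat) (φ := CommRingCat.ofHom ((k p).p1.comp ρ))).mp ?_
    show Flat (sp ((k p).p1.comp ρ))
    haveI : Flat (sp ((k p).p1.comp ρ) ≫ (hW p).fromSpec) := by
      rw [← sp_comp, Category.assoc, ← hρ, ← Category.assoc, ← hY, Category.assoc]; infer_instance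
    exact flat_of_comp_mono _ (hW p).fromSpec
  have f2 : ((k p).p2.comp ρ).Flat := by
    refine (HasRingHomProperty.Spec_iff (P := @Flat) (φ := CommRingCat.ofHom ((k p).p2.comp ρ))).mp ?_
    show Flat (sp ((k p).p2.comp ρ))
    haveI : Flat (sp ((k p).p2.comp ρ) ≫ (hW p).fromSpec) := by
      rw [← sp_comp, Category.assoc, ← hρ, ← Category.assoc, ← hX, Category.assoc]; infer_instance
    exact flat_of_comp_mono _ (hW p).fromSpec
  have f0 : ((k p).r2.comp ((k p).p2.comp ρ)).Flat := by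
    refine (HasRingHomProperty.Spec_iff (P := @Flat)
      (φ := CommRingCat.ofHom ((k p).r2.comp ((k p).p2.comp ρ)))).mp ?_
    show Flat (sp ((k p).r2.comp ((k p).p2.comp ρ)))
    have e : sp ((k p).r2.comp ((k p).p2.comp ρ)) ≫ (hW p).fromSpec = (k p).hW.fromSpec ≫ (i ≫ a) ≫ q := by
      have hspec : (k p).hW.fromSpec ≫ i = sp (k p).r2 ≫ (k p).hU.fromSpec := (k p).spec_i
      rw [Category.assoc, reassoc_of% hspec, reassoc_of% (hX p), hρ, ← sp_comp, ← sp_comp]
      simp only [Category.assoc]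
    haveI : Flat (sp ((k p).r2.comp ((k p).p2.comp ρ)) ≫ (hW p).fromSpec) := by rw [e]; infer_instance
    exact flat_of_comp_mono _ (hW p).fromSpec
  letI : Algebra Γ(S, W p) (k p).R := ρ.toAlgebra
  letI : Algebra Γ(S, W p) Γ(Y, (k p).V) := ((k p).p1.comp ρ).toAlgebra
  letI : Algebra Γ(S, W p) Γ(X, (k p).U) := ((k p).p2.comp ρ).toAlgebra
  letI : Algebra Γ(S, W p) Γ(Z, i ⁻¹ᵁ (k p).U) := ((k p).r2.comp ((k p).p2.comp ρ)).toAlgebra
  haveI : Module.Flat Γ(S, W p) Γ(Y, (k p).V) := f1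
  haveI : Module.Flat Γ(S, W p) Γ(X, (k p).U) := f2
  haveI : Module.Flat Γ(S, W p) Γ(Z, i ⁻¹ᵁ (k p).U) := f0
  have hflat : ρ.Flat := flat_of_isFib (R := Γ(S, W p))
    (φ1 := ({ (k p).p1 with commutes' := fun _ => rfl } : (k p).R →ₐ[Γ(S, W p)] Γ(Y, (k p).V)))
    (φ2 := ({ (k p).p2 with commutes' := fun _ => rfl } : (k p).R →ₐ[Γ(S, W p)] Γ(X, (k p).U)))
    (ψ1 := ({ (k p).r1 with commutes' := fun t => (k p).isFib.comm_apply (ρ t) } :
      Γ(Y, (k p).V) →ₐ[Γ(S, W p)] Γ(Z, i ⁻¹ᵁ (k p).U)))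
    (ψ2 := ({ (k p).r2 with commutes' := fun t => rfl } :
      Γ(X, (k p).U) →ₐ[Γ(S, W p)] Γ(Z, i ⁻¹ᵁ (k p).U))) (k p).isFib
  haveI : Flat (sp ρ) := (HasRingHomProperty.Spec_iff (P := @Flat) (φ := CommRingCat.ofHom ρ)).mpr hflat
  rw [hρ]
  infer_instance

end Groth.L24.PinchBC
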