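import Groth.Agent.L20.Pinch.Sep
import Groth.Agent.L24.PinchBC.Alg
import Mathlib.AlgebraicGeometry.Morphisms.Flat

/-!
# Base change of pinched squares along morphisms of the base
-/

universe u

open CategoryTheory Limits AlgebraicGeometry TensorProduct

set_option linter.style.haveILetI false
set_option backward.isDefEq.respectTransparency.types false

namespace Groth.L24.PinchBC

open Groth.L20.Pinch
open Groth.L09.Patch (sp sp_comp)

variable {X Y Z P : Scheme.{u}} {i : Z ⟶ X} {j : Z ⟶ Y} {a : X ⟶ P} {b : Y ⟶ P}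
variable {V V1 V2 V0 : Scheme.{u}} {v : V ⟶ P} {pr1 : V1 ⟶ V} {q1 : V1 ⟶ Y} {pr2 : V2 ⟶ V} {q2 : V2 ⟶ X}
  {l1 : V0 ⟶ V1} {l2 : V0 ⟶ V2} {q0 : V0 ⟶ Z}

/-- An affine chart of `V` over a fibre product of rings compatible with the given square. -/
structure Chart (i : Z ⟶ X) (j : Z ⟶ Y) (a : X ⟶ P) (b : Y ⟶ P) (v : V ⟶ P) where
  (T T1 T2 T0 : Type u)
  [crT : CommRing T]
  [crT1 : CommRing T1]
  [crT2 : CommRing T2]
  [crT0 : CommRing T0]
  φ1 : T →+* T1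
  φ2 : T →+* T2
  ψ1 : T1 →+* T0
  ψ2 : T2 →+* T0
  isFib : IsFib φ1 φ2 ψ1 ψ2
  w : Spec (CommRingCat.of T) ⟶ V
  open_w : IsOpenImmersion w
  c1 : Spec (CommRingCat.of T1) ⟶ Y
  c2 : Spec (CommRingCat.of T2) ⟶ X
  c0 : Spec (CommRingCat.of T0) ⟶ Z
  sq1 : IsPullback (sp φ1) c1 (w ≫ v) b
  sq2 : IsPullback (sp φ2) c2 (w ≫ v) a
  comm1 : sp ψ1 ≫ c1 = c0 ≫ j
  comm2 : sp ψ2 ≫ c2 = c0 ≫ i

attribute [instance] Chart.crT Chart.crT1 Chart.crT2 Chart.crT0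

theorem Chart.step (c : Chart i j a b v) (hq1 : IsPullback pr1 q1 v b) (hq2 : IsPullback pr2 q2 v a)
    (hq0 : IsPullback (l2 ≫ pr2) q0 v (i ≫ a)) (hl : l2 ≫ pr2 = l1 ≫ pr1)
    (hl1 : l1 ≫ q1 = q0 ≫ j) (hl2 : l2 ≫ q2 = q0 ≫ i) (Q : Scheme.{u}) :
    (∀ (g1 : V1 ⟶ Q) (g2 : V2 ⟶ Q), l1 ≫ g1 = l2 ≫ g2 →
      ∃ H : Spec (CommRingCat.of c.T) ⟶ Q,
        (∀ {W : Scheme.{u}} (m : W ⟶ Spec (CommRingCat.of c.T)) (n : W ⟶ V1),
          m ≫ c.w = n ≫ pr1 → m ≫ H = n ≫ g1) ∧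
        (∀ {W : Scheme.{u}} (m : W ⟶ Spec (CommRingCat.of c.T)) (n : W ⟶ V2),
          m ≫ c.w = n ≫ pr2 → m ≫ H = n ≫ g2)) ∧
    (∀ {U : Scheme.{u}} (r : U ⟶ Spec (CommRingCat.of c.T)) [IsOpenImmersion r] (f f' : U ⟶ Q),
      (∀ {W : Scheme.{u}} (m : W ⟶ U) (n : W ⟶ V1), m ≫ r ≫ c.w = n ≫ pr1 → m ≫ f = m ≫ f') →
      (∀ {W : Scheme.{u}} (m : W ⟶ U) (n : W ⟶ V2), m ≫ r ≫ c.w = n ≫ pr2 → m ≫ f = m ≫ f') → f = f') := by
  let e1 := hq1.lift (sp c.φ1 ≫ c.w) c.c1 (by rw [Category.assoc]; exact c.sq1.w)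
  let e2 := hq2.lift (sp c.φ2 ≫ c.w) c.c2 (by rw [Category.assoc]; exact c.sq2.w)
  have he1 : IsPullback (sp c.φ1) e1 c.w pr1 :=
    IsPullback.of_bot (show IsPullback (sp c.φ1) (e1 ≫ q1) (c.w ≫ v) b by
      rw [hq1.lift_snd]; exact c.sq1) (hq1.lift_fst _ _ _).symm hq1
  have he2 : IsPullback (sp c.φ2) e2 c.w pr2 :=
    IsPullback.of_bot (show IsPullback (sp c.φ2) (e2 ≫ q2) (c.w ≫ v) a by
      rw [hq2.lift_snd]; exact c.sq2) (hq2.lift_fst _ _ _).symm hq2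
  refine ⟨fun g1 g2 hg => ?_, fun {U} r _ f f' hf1 hf2 => ?_⟩
  · let e0 := hq0.lift (sp c.ψ2 ≫ sp c.φ2 ≫ c.w) c.c0 (by
      have := congrArg (sp c.ψ2 ≫ ·) c.sq2.w
      simp only [Category.assoc] at this ⊢
      rw [this, reassoc_of% c.comm2])
    have hψ : sp c.ψ1 ≫ sp c.φ1 = sp c.ψ2 ≫ sp c.φ2 := by rw [sp_comp, sp_comp, c.isFib.comm]
    have hc1 : sp c.ψ1 ≫ e1 = e0 ≫ l1 := by
      refine hq1.hom_ext ?_ ?_
      · rw [Category.assoc, Category.assoc, hq1.lift_fst, ← hl, hq0.lift_fst, reassoc_of% hψ]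
      · rw [Category.assoc, Category.assoc, hq1.lift_snd, hl1, hq0.lift_snd_assoc, c.comm1]
    have hc2 : sp c.ψ2 ≫ e2 = e0 ≫ l2 := by
      refine hq2.hom_ext ?_ ?_
      · rw [Category.assoc, Category.assoc, hq2.lift_fst, hq0.lift_fst]
      · rw [Category.assoc, Category.assoc, hq2.lift_snd, hl2, hq0.lift_snd_assoc, c.comm2]
    obtain ⟨H, hH1, hH2⟩ := c.isFib.exists_desc_hom (e1 ≫ g1) (e2 ≫ g2)
      (by rw [reassoc_of% hc1, reassoc_of% hc2, hg])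
    refine ⟨H, fun m n hmn => ?_, fun m n hmn => ?_⟩
    · obtain ⟨l, hl', hl''⟩ : ∃ l, l ≫ sp c.φ1 = m ∧ l ≫ e1 = n :=
        ⟨he1.lift m n hmn, he1.lift_fst _ _ _, he1.lift_snd _ _ _⟩
      rw [← hl', Category.assoc, hH1, ← hl'', Category.assoc]
    · obtain ⟨l, hl', hl''⟩ : ∃ l, l ≫ sp c.φ2 = m ∧ l ≫ e2 = n :=
        ⟨he2.lift m n hmn, he2.lift_fst _ _ _, he2.lift_snd _ _ _⟩
      rw [← hl', Category.assoc, hH2, ← hl'', Category.assoc]
  · refine c.isFib.hom_ext r f f' (hf1 (pullback.fst r _) (pullback.snd r _ ≫ e1) ?_)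
      (hf2 (pullback.fst r _) (pullback.snd r _ ≫ e2) ?_)
    · rw [Category.assoc, ← he1.w, ← pullback.condition_assoc]
    · rw [Category.assoc, ← he2.w, ← pullback.condition_assoc]

/-- A square with charts is a pushout. -/
theorem isPushout_of_charts (hc : ∀ x : V, ∃ c : Chart i j a b v, x ∈ Set.range c.w)
    (hq1 : IsPullback pr1 q1 v b) (hq2 : IsPullback pr2 q2 v a)
    (hq0 : IsPullback (l2 ≫ pr2) q0 v (i ≫ a)) (hl : l2 ≫ pr2 = l1 ≫ pr1)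
    (hl1 : l1 ≫ q1 = q0 ≫ j) (hl2 : l2 ≫ q2 = q0 ≫ i) :
    IsPushout l2 l1 pr2 pr1 := by
  choose c hxw using hc
  have step := fun (Q : Scheme.{u}) (x : V) => (c x).step hq1 hq2 hq0 hl hl1 hl2 Q
  let w := fun x => (c x).w
  have hw : ∀ x, IsOpenImmersion (w x) := fun x => (c x).open_w
  let 𝒰 : V.OpenCover :=
    { I₀ := V
      X := fun x => Spec (CommRingCat.of (c x).T)
      f := w
      mem₀ := (Scheme.ofArrows_mem_precoverage_iff _).mpr ⟨fun x => ⟨x, hxw x⟩, hw⟩ }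
  have hsep : ∀ {Q : Scheme.{u}} (f f' : V ⟶ Q), pr2 ≫ f = pr2 ≫ f' → pr1 ≫ f = pr1 ≫ f' → f = f' :=
    fun {Q} f f' h2 h1 => Scheme.Cover.hom_ext 𝒰 f f' fun x =>
      (step Q x).2 (𝟙 _) (w x ≫ f) (w x ≫ f')
        (fun m n e => by rw [Category.id_comp] at e; rw [reassoc_of% e, reassoc_of% e, h1])
        (fun m n e => by rw [Category.id_comp] at e; rw [reassoc_of% e, reassoc_of% e, h2])
  have hex : ∀ {Q : Scheme.{u}} (g2 : V2 ⟶ Q) (g1 : V1 ⟶ Q), l2 ≫ g2 = l1 ≫ g1 →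
      ∃ H : V ⟶ Q, pr2 ≫ H = g2 ∧ pr1 ≫ H = g1 := by
    intro Q g2 g1 hg
    choose H hH1 hH2 using fun x => (step Q x).1 g1 g2 hg.symm
    have hcompat : ∀ x y, pullback.fst (w x) (w y) ≫ H x = pullback.snd (w x) (w y) ≫ H y := fun x y => by
      haveI := hw y
      refine (step Q x).2 (pullback.fst (w x) (w y)) _ _ (fun m n e => ?_) (fun m n e => ?_)
      · rw [← Category.assoc, hH1 x _ n (by rw [Category.assoc]; exact e), ← Category.assoc,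
          hH1 y _ n (by rw [Category.assoc, ← pullback.condition]; exact e)]
      · rw [← Category.assoc, hH2 x _ n (by rw [Category.assoc]; exact e), ← Category.assoc,
          hH2 y _ n (by rw [Category.assoc, ← pullback.condition]; exact e)]
    refine ⟨𝒰.glueMorphisms H hcompat, ?_, ?_⟩
    · refine Scheme.Cover.hom_ext (Precoverage.ZeroHypercover.pullback₁ pr2 𝒰) _ _ fun x => ?_
      show pullback.fst pr2 (w x) ≫ pr2 ≫ _ = pullback.fst pr2 (w x) ≫ g2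
      rw [pullback.condition_assoc, Scheme.Cover.ι_glueMorphisms 𝒰 H hcompat x,
        hH2 x _ _ pullback.condition.symm]
    · refine Scheme.Cover.hom_ext (Precoverage.ZeroHypercover.pullback₁ pr1 𝒰) _ _ fun x => ?_
      show pullback.fst pr1 (w x) ≫ pr1 ≫ _ = pullback.fst pr1 (w x) ≫ g1
      rw [pullback.condition_assoc, Scheme.Cover.ι_glueMorphisms 𝒰 H hcompat x,
        hH1 x _ _ pullback.condition.symm]
  exact ⟨⟨hl⟩, ⟨PushoutCocone.IsColimit.mk _ (fun c => (hex c.inl c.inr c.condition).choose)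
    (fun c => (hex c.inl c.inr c.condition).choose_spec.1)
    (fun c => (hex c.inl c.inr c.condition).choose_spec.2)
    (fun c m hm2 hm1 => hsep _ _ (hm2.trans (hex c.inl c.inr c.condition).choose_spec.1.symm)
      (hm1.trans (hex c.inl c.inr c.condition).choose_spec.2.symm))⟩⟩

variable [IsClosedImmersion i]

/-- The fibre product of the rings of a chart stays injective in the product after any base change. -/
def BaseStable (k : Pair i j) {R : CommRingCat.{u}} (ρ : R →+* k.R) : Prop :=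
  ∀ (R' : CommRingCat.{u}) (_ : R →+* R'),
    letI : Algebra R R' := (‹R →+* R'›).toAlgebra
    letI : Algebra R k.R := ρ.toAlgebra
    letI : Algebra R Γ(Y, k.V) := (k.p1.comp ρ).toAlgebra
    letI : Algebra R Γ(X, k.U) := (k.p2.comp ρ).toAlgebra
    Function.Injective (LinearMap.lTensor R'
      (diag ({ k.p1 with commutes' := fun _ => rfl } : k.R →ₐ[R] Γ(Y, k.V))
        ({ k.p2 with commutes' := fun _ => rfl } : k.R →ₐ[R] Γ(X, k.U))))

theorem baseStable_of_flat (k : Pair i j) {R : CommRingCat.{u}} (ρ : R →+* k.R)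
    (h : (k.r2.comp (k.p2.comp ρ)).Flat) : BaseStable k ρ := by
  intro R' σ
  letI : Algebra R R' := σ.toAlgebra
  letI : Algebra R k.R := ρ.toAlgebra
  letI : Algebra R Γ(Y, k.V) := (k.p1.comp ρ).toAlgebra
  letI : Algebra R Γ(X, k.U) := (k.p2.comp ρ).toAlgebra
  letI : Algebra R Γ(Z, i ⁻¹ᵁ k.U) := (k.r2.comp (k.p2.comp ρ)).toAlgebra
  haveI : Module.Flat R Γ(Z, i ⁻¹ᵁ k.U) := h
  exact injective_of_flat (R' := R')
    (ψ1 := ({ k.r1 with commutes' := fun t => k.isFib.comm_apply (ρ t) } : Γ(Y, k.V) →ₐ[R] Γ(Z, i ⁻¹ᵁ k.U)))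
    (ψ2 := ({ k.r2 with commutes' := fun t => rfl } : Γ(X, k.U) →ₐ[R] Γ(Z, i ⁻¹ᵁ k.U))) k.isFib

theorem flat_of_comp_mono {A B C : Scheme.{u}} (f : A ⟶ B) (g : B ⟶ C) [Mono g] [Flat (f ≫ g)] : Flat f := by
  have h : IsPullback (𝟙 A) f (f ≫ g) g := by
    refine ⟨⟨Category.id_comp _⟩, ⟨PullbackCone.IsLimit.mk _ (fun s => s.fst) (fun s => Category.comp_id _)
      (fun s => ?_) (fun s l h₁ _ => (Category.comp_id l).symm.trans h₁)⟩⟩
    rw [← cancel_mono g, Category.assoc, s.condition]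
  exact MorphismProperty.of_isPullback h inferInstance

variable {S S' : Scheme.{u}} {q : P ⟶ S} {g : S' ⟶ S} {p' : V ⟶ S'}

theorem chart_of_baseStable (hV : IsPullback v p' q g) (k : Pair i j) (u : k.spec ⟶ P) [IsOpenImmersion u]
    (hX : k.hU.fromSpec ≫ a = k.inX ≫ u) (hY : k.hV.fromSpec ≫ b = k.inY ≫ u)
    (hXr : a ⁻¹' Set.range u = (k.U : Set X)) (hYr : b ⁻¹' Set.range u = (k.V : Set Y))
    {R R' : CommRingCat.{u}} (ρ : R →+* k.R) (σ : R →+* R') (e : Spec R ⟶ S) [IsOpenImmersion e]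
    (e' : Spec R' ⟶ S') [IsOpenImmersion e'] (hu : u ≫ q = sp ρ ≫ e) (he : e' ≫ g = sp σ ≫ e)
    (hst : BaseStable k ρ) (x : V) (hxu : v x ∈ Set.range u) (hxe : p' x ∈ Set.range e') :
    ∃ c : Chart i j a b v, x ∈ Set.range c.w := by
  have hs1 := IsPinch.isPullback_chartY hY hYr
  have hs2 := IsPinch.isPullback_chartX hX hXr
  letI : Algebra R R' := σ.toAlgebra
  letI : Algebra R k.R := ρ.toAlgebra
  letI : Algebra R Γ(Y, k.V) := (k.p1.comp ρ).toAlgebra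
  letI : Algebra R Γ(X, k.U) := (k.p2.comp ρ).toAlgebra
  letI : Algebra R Γ(Z, i ⁻¹ᵁ k.U) := (k.r2.comp (k.p2.comp ρ)).toAlgebra
  let φ1 : k.R →ₐ[R] Γ(Y, k.V) := { k.p1 with commutes' := fun _ => rfl }
  let φ2 : k.R →ₐ[R] Γ(X, k.U) := { k.p2 with commutes' := fun _ => rfl }
  let ψ1 : Γ(Y, k.V) →ₐ[R] Γ(Z, i ⁻¹ᵁ k.U) := { k.r1 with commutes' := fun t => k.isFib.comm_apply (ρ t) }
  let ψ2 : Γ(X, k.U) →ₐ[R] Γ(Z, i ⁻¹ᵁ k.U) := { k.r2 with commutes' := fun t => rfl }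
  have h' := isFib_baseChange R' (φ1 := φ1) (φ2 := φ2) (ψ1 := ψ1) (ψ2 := ψ2) k.isFib (hst R' σ)
  let ιT := sp (Algebra.TensorProduct.includeRight (R := R) (A := R') (B := k.R)).toRingHom
  let ιR := sp (Algebra.TensorProduct.includeLeftRingHom : R' →+* R' ⊗[R] k.R)
  have hT : IsPullback ιR ιT (sp σ) (sp ρ) :=
    isPullback_SpecMap_of_isPushout _ _ _ _ (CommRingCat.isPushout_tensorProduct R R' k.R)
  let w : Spec (CommRingCat.of (R' ⊗[R] k.R)) ⟶ V := hV.lift (ιT ≫ u) (ιR ≫ e') (by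
    rw [Category.assoc, Category.assoc, hu, he, ← Category.assoc, ← hT.w, Category.assoc])
  have hwv : w ≫ v = ιT ≫ u := hV.lift_fst _ _ _
  have hw : IsOpenImmersion w := by
    have : w = hT.flip.isoPullback.hom ≫
        pullback.map (sp ρ) (sp σ) q g u e' e hu.symm he.symm ≫ hV.isoPullback.inv := by
      refine hV.hom_ext ?_ ?_
      · rw [hwv, Category.assoc, Category.assoc, IsPullback.isoPullback_inv_fst, pullback.lift_fst,
          IsPullback.isoPullback_hom_fst_assoc]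
      · rw [hV.lift_snd, Category.assoc, Category.assoc, IsPullback.isoPullback_inv_snd, pullback.lift_snd,
          IsPullback.isoPullback_hom_snd_assoc]
    rw [this]; infer_instance
  refine ⟨{
    T := R' ⊗[R] k.R
    T1 := R' ⊗[R] Γ(Y, k.V)
    T2 := R' ⊗[R] Γ(X, k.U)
    T0 := R' ⊗[R] Γ(Z, i ⁻¹ᵁ k.U)
    φ1 := _, φ2 := _, ψ1 := _, ψ2 := _, isFib := h', w := w, open_w := hw
    c1 := sp (Algebra.TensorProduct.includeRight (R := R) (A := R') (B := Γ(Y, k.V))).toRingHom ≫ k.hV.fromSpec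
    c2 := sp (Algebra.TensorProduct.includeRight (R := R) (A := R') (B := Γ(X, k.U))).toRingHom ≫ k.hU.fromSpec
    c0 := sp (Algebra.TensorProduct.includeRight (R := R) (A := R') (B := Γ(Z, i ⁻¹ᵁ k.U))).toRingHom ≫
      k.hW.fromSpec
    sq1 := hwv ▸ (isPullback_spec_map R' φ1).paste_vert hs1
    sq2 := hwv ▸ (isPullback_spec_map R' φ2).paste_vert hs2
    comm1 := ?_, comm2 := ?_ }, ?_⟩
  · rw [← Category.assoc, (isPullback_spec_map R' ψ1).w, Category.assoc, Category.assoc]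
    exact congrArg _ k.spec_j.symm
  · rw [← Category.assoc, (isPullback_spec_map R' ψ2).w, Category.assoc, Category.assoc]
    exact congrArg _ k.spec_i.symm
  · obtain ⟨t, ht⟩ := hxu
    obtain ⟨r, hr⟩ := hxe
    have hσρ : sp σ r = sp ρ t := e.isOpenEmbedding.injective (by
      rw [← Scheme.Hom.comp_apply, ← he, ← Scheme.Hom.comp_apply, ← hu, Scheme.Hom.comp_apply,
        Scheme.Hom.comp_apply, hr, ht, ← Scheme.Hom.comp_apply, ← Scheme.Hom.comp_apply, hV.w])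
    have hr' : x ∈ v ⁻¹ᵁ u.opensRange ⊓ p' ⁻¹ᵁ e'.opensRange := ⟨⟨t, ht⟩, ⟨r, hr⟩⟩
    let O := v ⁻¹ᵁ u.opensRange ⊓ p' ⁻¹ᵁ e'.opensRange
    let αu : O.toScheme ⟶ k.spec := IsOpenImmersion.lift u (O.ι ≫ v) (by
      rintro _ ⟨y, rfl⟩; exact y.2.1)
    let αe : O.toScheme ⟶ Spec R' := IsOpenImmersion.lift e' (O.ι ≫ p') (by
      rintro _ ⟨y, rfl⟩; exact y.2.2)
    let α : O.toScheme ⟶ Spec (CommRingCat.of (R' ⊗[R] k.R)) := hT.lift αe αu (by
      rw [← cancel_mono e, Category.assoc, Category.assoc, ← he, ← hu, IsOpenImmersion.lift_fac_assoc,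
        IsOpenImmersion.lift_fac_assoc, Category.assoc, Category.assoc, hV.w])
    have hα : α ≫ w = O.ι := by
      refine hV.hom_ext ?_ ?_
      · rw [Category.assoc, hwv, hT.lift_snd_assoc, IsOpenImmersion.lift_fac]
      · rw [Category.assoc, hV.lift_snd, hT.lift_fst_assoc, IsOpenImmersion.lift_fac]
    exact ⟨α ⟨x, hr'⟩, by rw [← Scheme.Hom.comp_apply, hα]; rfl⟩

/-- Base change of a pinched square along a morphism of the base. -/
theorem isPushout_baseChange (h : IsPinch i j a b) (hV : IsPullback v p' q g)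
    (hst : ∀ (k : Pair i j) (u : k.spec ⟶ P), IsOpenImmersion u → k.hU.fromSpec ≫ a = k.inX ≫ u →
      k.hV.fromSpec ≫ b = k.inY ≫ u → a ⁻¹' Set.range u = (k.U : Set X) → b ⁻¹' Set.range u = (k.V : Set Y) →
      ∀ (W : S.Opens) (hW : IsAffineOpen W) (ρ : Γ(S, W) →+* k.R), u ≫ q = sp ρ ≫ hW.fromSpec → BaseStable k ρ)
    (hq1 : IsPullback pr1 q1 v b) (hq2 : IsPullback pr2 q2 v a)
    (hq0 : IsPullback (l2 ≫ pr2) q0 v (i ≫ a)) (hl : l2 ≫ pr2 = l1 ≫ pr1)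
    (hl1 : l1 ≫ q1 = q0 ≫ j) (hl2 : l2 ≫ q2 = q0 ≫ i) :
    IsPushout l2 l1 pr2 pr1 := by
  refine isPushout_of_charts (fun x => ?_) hq1 hq2 hq0 hl hl1 hl2
  obtain ⟨W, hW, hxW, -⟩ := exists_isAffineOpen_mem_and_subset (X := S) (x := g (p' x)) (U := ⊤)
    (TopologicalSpace.Opens.mem_top _)
  obtain ⟨W', hW', hxW', hW'le⟩ := exists_isAffineOpen_mem_and_subset (X := S') (x := p' x) (U := g ⁻¹ᵁ W) hxW
  have hvx : v x ∈ q ⁻¹ᵁ W := by
    show q (v x) ∈ W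
    rw [← Scheme.Hom.comp_apply, hV.w]; exact hxW
  obtain ⟨k, u, hu, hxu, hX, hY, hXr, hYr, hle⟩ := h.exists_chart_le (q ⁻¹ᵁ W) (v x) hvx
  haveI := hu
  have hr : Set.range (u ≫ q) ⊆ Set.range hW.fromSpec := by
    rw [hW.range_fromSpec]; rintro _ ⟨s, rfl⟩; exact hle ⟨s, rfl⟩
  let ρ' : Spec (CommRingCat.of k.R) ⟶ Spec Γ(S, W) := IsOpenImmersion.lift hW.fromSpec (u ≫ q) hr
  let ρ : Γ(S, W) →+* k.R := (Spec.preimage ρ').hom
  have hρ : u ≫ q = sp ρ ≫ hW.fromSpec := by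
    show _ = Spec.map (Spec.preimage ρ') ≫ _
    rw [Spec.map_preimage, IsOpenImmersion.lift_fac]
  exact chart_of_baseStable hV k u hX hY hXr hYr ρ (g.appLE W W' hW'le).hom hW.fromSpec hW'.fromSpec hρ
    (by rw [← IsAffineOpen.SpecMap_appLE_fromSpec g hW hW' hW'le]; rfl)
    (hst k u hu hX hY hXr hYr W hW ρ hρ) x hxu (by rw [hW'.range_fromSpec]; exact hxW')

/-- If the closed subscheme is flat over the base, pinched squares commute with base change. -/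
theorem isPushout_baseChange_of_flat (h : IsPinch i j a b) [Flat ((i ≫ a) ≫ q)] (hV : IsPullback v p' q g)
    (hq1 : IsPullback pr1 q1 v b) (hq2 : IsPullback pr2 q2 v a)
    (hq0 : IsPullback (l2 ≫ pr2) q0 v (i ≫ a)) (hl : l2 ≫ pr2 = l1 ≫ pr1)
    (hl1 : l1 ≫ q1 = q0 ≫ j) (hl2 : l2 ≫ q2 = q0 ≫ i) :
    IsPushout l2 l1 pr2 pr1 := by
  refine isPushout_baseChange h hV (fun k u _ hX _ _ _ W hW ρ hρ => baseStable_of_flat k ρ ?_)
    hq1 hq2 hq0 hl hl1 hl2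
  have e : sp (k.r2.comp (k.p2.comp ρ)) ≫ hW.fromSpec = k.hW.fromSpec ≫ (i ≫ a) ≫ q := by
    have hspec : k.hW.fromSpec ≫ i = sp k.r2 ≫ k.hU.fromSpec := k.spec_i
    rw [Category.assoc, reassoc_of% hspec, reassoc_of% hX, hρ, ← sp_comp, ← sp_comp]
    simp only [Category.assoc]
  haveI : Flat (sp (k.r2.comp (k.p2.comp ρ)) ≫ hW.fromSpec) := by rw [e]; infer_instance
  exact (HasRingHomProperty.Spec_iff (P := @Flat)).mp (flat_of_comp_mono _ hW.fromSpec)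

end Groth.L24.PinchBC
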