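import Groth.Agent.L24.PinchBC.Alg
import Mathlib.RingTheory.IsTensorProduct
import Mathlib.RingTheory.Flat.Tensor
import Mathlib.RingTheory.Flat.Basic
import Mathlib.LinearAlgebra.TensorProduct.RightExactness
import Mathlib.LinearAlgebra.Quotient.Basic

/-!
# Flatness of cokernels of algebra maps under flat base change
-/

universe u

open TensorProduct

set_option linter.style.haveILetI false
set_option maxSynthPendingDepth 3
set_option backward.isDefEq.respectTransparency.types false

namespace Groth.L24.PinchBC

open Groth.L20.Pinch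

/-- A tensor product of a flat module over the intermediate ring and a flat module over the base is flat. -/
theorem flat_tensor_over {R B B' M : Type u} [CommRing R] [CommRing B] [CommRing B'] [Algebra R B] [Algebra B B']
    [Algebra R B'] [IsScalarTower R B B'] [AddCommGroup M] [Module R M] [Module B M] [IsScalarTower R B M]
    [Module.Flat B B'] [Module.Flat R M] : Module.Flat R (B' ⊗[B] M) := by
  rw [Module.Flat.iff_lTensor_injective']
  intro J
  have h1 : Function.Injective (AlgebraTensorModule.lTensor B M J.subtype : M ⊗[R] J →ₗ[B] M ⊗[R] R) :=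
    Module.Flat.lTensor_preserves_injective_linearMap (M := M) J.subtype Subtype.val_injective
  have h2 := Module.Flat.lTensor_preserves_injective_linearMap (M := B')
    (AlgebraTensorModule.lTensor B M J.subtype) h1
  intro a b hab
  apply (AlgebraTensorModule.assoc R B B B' M J).injective
  apply h2
  have key : ∀ z : (B' ⊗[B] M) ⊗[R] J, (AlgebraTensorModule.lTensor B M J.subtype).lTensor B'
      (AlgebraTensorModule.assoc R B B B' M J z) =
      AlgebraTensorModule.assoc R B B B' M R (J.subtype.lTensor (B' ⊗[B] M) z) := by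
    intro z
    induction z using TensorProduct.induction_on with
    | zero => simp
    | tmul w j =>
      induction w using TensorProduct.induction_on with
      | zero => simp
      | tmul t m => simp
      | add x y hx hy => simp only [TensorProduct.add_tmul, map_add, hx, hy]
    | add x y hx hy => simp only [map_add, hx, hy]
  rw [key, key, hab]

variable {R B C B' C' : Type u} [CommRing R] [CommRing B] [CommRing C] [CommRing B'] [CommRing C']
  [Algebra R B] [Algebra R C] [Algebra R B'] [Algebra R C'] [Algebra B C] [Algebra B B'] [Algebra B C']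
  [Algebra B' C'] [Algebra C C'] [IsScalarTower R B C] [IsScalarTower R B B'] [IsScalarTower R B' C']
  [IsScalarTower B B' C'] [IsScalarTower B C C']

/-- If the cokernel of `B → C` is flat over `R`, so is that of a flat base change `B' → C'`. -/
theorem flat_coker_baseChange [Algebra.IsPushout B B' C C'] [Module.Flat B B']
    (h : Module.Flat R (C ⧸ Submodule.span R (Set.range (algebraMap B C)))) :
    Module.Flat R (C' ⧸ LinearMap.range (IsScalarTower.toAlgHom R B' C').toLinearMap) := by
  let N : Submodule B C := LinearMap.range (Algebra.linearMap B C)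
  have hN : Submodule.span R (Set.range (algebraMap B C)) = N.restrictScalars R := by
    refine le_antisymm (Submodule.span_le.mpr ?_) fun x hx => ?_
    · rintro _ ⟨y, rfl⟩; exact ⟨y, rfl⟩
    · obtain ⟨y, rfl⟩ := hx; exact Submodule.subset_span ⟨y, rfl⟩
  haveI : Module.Flat R (C ⧸ N) := by
    rw [hN] at h
    haveI := h
    exact Module.Flat.of_linearEquiv (Submodule.Quotient.restrictScalarsEquiv R N).symm
  haveI : Module.Flat R (B' ⊗[B] (C ⧸ N)) := flat_tensor_over
  let e : B' ⊗[B] C ≃ₐ[B'] C' := Algebra.IsPushout.equiv B B' C C'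
  let π : C' →ₗ[R] B' ⊗[B] (C ⧸ N) :=
    ((AlgebraTensorModule.lTensor B' B' N.mkQ).restrictScalars R) ∘ₗ
      (e.symm.toLinearMap.restrictScalars R)
  have hπ : Function.Surjective π := by
    intro z
    obtain ⟨w, rfl⟩ := LinearMap.lTensor_surjective B' N.mkQ_surjective z
    exact ⟨e w, by simp [π]⟩
  have hex : Function.Exact (Algebra.linearMap B C) N.mkQ := LinearMap.exact_map_mkQ_range _
  have hker : LinearMap.range (IsScalarTower.toAlgHom R B' C').toLinearMap = LinearMap.ker π := by
    ext x
    constructor
    · rintro ⟨b, rfl⟩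
      have h1 : e.symm (algebraMap B' C' b) = b ⊗ₜ (1 : C) := by
        rw [AlgEquiv.commutes, Algebra.TensorProduct.algebraMap_apply]; rfl
      have h2 : N.mkQ (1 : C) = 0 := (Submodule.Quotient.mk_eq_zero N).mpr ⟨1, (Algebra.linearMap_apply B C 1).trans (map_one (algebraMap B C))⟩
      simp [π, h1, h2]
    · intro hx
      obtain ⟨w, hw⟩ := ((lTensor_exact B' hex N.mkQ_surjective) (e.symm x)).mp hx
      refine ⟨TensorProduct.rid B B' w, ?_⟩
      obtain ⟨b, rfl⟩ : ∃ b : B', b ⊗ₜ[B] (1 : B) = w :=
        ⟨TensorProduct.rid B B' w, by rw [← TensorProduct.rid_symm_apply, LinearEquiv.symm_apply_apply]⟩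
      rw [← e.apply_symm_apply x, ← hw]
      simp only [rid_tmul, one_smul, AlgHom.toLinearMap_apply, IsScalarTower.coe_toAlgHom',
        LinearMap.lTensor_tmul, Algebra.linearMap_apply, map_one]
      rw [← e.commutes b, Algebra.TensorProduct.algebraMap_apply]
      rfl
  exact Module.Flat.of_linearEquiv
    ((Submodule.quotEquivOfEq _ _ hker).trans (LinearMap.quotKerEquivOfSurjective π hπ))

variable {R' T T1 T2 T0 : Type u} [CommRing R'] [CommRing T] [CommRing T1] [CommRing T2]
  [CommRing T0] [Algebra R R'] [Algebra R T] [Algebra R T1] [Algebra R T2] [Algebra R T0]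
  {φ1 : T →ₐ[R] T1} {φ2 : T →ₐ[R] T2} {ψ1 : T1 →ₐ[R] T0} {ψ2 : T2 →ₐ[R] T0}

omit [CommRing B] [CommRing C] [CommRing B'] [CommRing C'] in
/-- Base change keeps the fibre product injective if the cokernel of the second leg is flat. -/
theorem injective_of_flat_coker (h : IsFib φ1.toRingHom φ2.toRingHom ψ1.toRingHom ψ2.toRingHom)
    (hψ : Function.Injective ψ1) [Module.Flat R (T0 ⧸ LinearMap.range ψ1.toLinearMap)] :
    Function.Injective (LinearMap.lTensor R' (diag φ1 φ2)) := by
  let π : T2 →ₗ[R] T0 ⧸ LinearMap.range ψ1.toLinearMap :=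
    (LinearMap.range ψ1.toLinearMap).mkQ ∘ₗ ψ2.toLinearMap
  have hπ : Function.Surjective π := (Submodule.mkQ_surjective _).comp h.surj
  have hex : Function.Exact φ2.toLinearMap π := fun y => by
    constructor
    · intro hy
      obtain ⟨x, hx⟩ := (Submodule.Quotient.mk_eq_zero _).mp hy
      obtain ⟨t, -, ht⟩ := h.glue x y hx
      exact ⟨t, ht⟩
    · rintro ⟨t, rfl⟩
      exact (Submodule.Quotient.mk_eq_zero _).mpr ⟨φ1 t, h.comm_apply t⟩
  have hinj : Function.Injective φ2.toLinearMap := fun s t hst => by
    refine h.ext (hψ ?_) hst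
    exact (h.comm_apply s).trans ((congrArg ψ2 hst).trans (h.comm_apply t).symm)
  have h2 := LinearMap.lTensor_injective_of_exact_of_flat π hπ φ2.toLinearMap hinj hex R'
  have e : LinearMap.lTensor R' φ2.toLinearMap =
      LinearMap.lTensor R' (LinearMap.snd R T1 T2) ∘ₗ LinearMap.lTensor R' (diag φ1 φ2) := by
    rw [← LinearMap.lTensor_comp]; rfl
  rw [e, LinearMap.coe_comp] at h2
  exact h2.of_comp

end Groth.L24.PinchBC
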