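import Groth.Agent.L20.Pinch.Rel
import Groth.Agent.L24.PinchBC.Basic
import Groth.Agent.L24.PinchBC.Coker
import Groth.Prelude.Def_W4c3jacimperfPinch
import Mathlib.RingTheory.RingHom.FaithfullyFlat

/-!
# Stability of charts when the cokernel of the finite leg is projective over the base
-/

universe u

open CategoryTheory Limits AlgebraicGeometry

set_option linter.style.haveILetI false
set_option maxSynthPendingDepth 3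
set_option backward.isDefEq.respectTransparency.types false

namespace Groth.L24.PinchBC

open Groth.L20.Pinch
open Groth.L09.Patch (sp sp_comp)

variable {X Y Z P S : Scheme.{u}} {i : Z ⟶ X} {j : Z ⟶ Y} {b : Y ⟶ P} [IsClosedImmersion i]

/-- A chart is stable under base change when `Y → S` is affine, `Z → Y` is affine and faithfully flat and
the cokernel is projective over affine opens of `S`. -/
theorem baseStable_of_coker [IsAffineHom j] [Flat j] [Surjective j] (t : Y ⟶ S) [IsAffineHom t]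
    (q : P ⟶ S) (hbq : b ≫ q = t)
    (hv : ∀ U : S.affineOpens, @Pinch.CokerProjective Γ(S, U) Γ(Z, (j ≫ t) ⁻¹ᵁ U) Γ(Y, t ⁻¹ᵁ U) _ _ _
      ((j ≫ t).app U).hom.toAlgebra (j.app (t ⁻¹ᵁ U)).hom)
    (k : Pair i j) (u : k.spec ⟶ P) (hY : k.hV.fromSpec ≫ b = k.inY ≫ u)
    (W : S.Opens) (hW : IsAffineOpen W) (ρ : Γ(S, W) →+* k.R) (hρ : u ≫ q = sp ρ ≫ hW.fromSpec) :
    BaseStable k ρ := by
  have e0 : k.hV.fromSpec ≫ t = sp (k.p1.comp ρ) ≫ hW.fromSpec := by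
    rw [← hbq, reassoc_of% hY, hρ, ← Category.assoc, sp_comp]
  have hVU : k.V ≤ t ⁻¹ᵁ W := by
    intro y hy
    obtain ⟨y', rfl⟩ : y ∈ Set.range k.hV.fromSpec := by rw [k.hV.range_fromSpec]; exact hy
    show (k.hV.fromSpec ≫ t) y' ∈ W
    rw [e0, Scheme.Hom.comp_apply, ← SetLike.mem_coe, ← hW.range_fromSpec]
    exact ⟨_, rfl⟩
  have hp1 : k.p1.comp ρ = (t.appLE W k.V hVU).hom := by
    have h1 : Spec.map (CommRingCat.ofHom (k.p1.comp ρ)) = Spec.map (t.appLE W k.V hVU) := by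
      rw [← cancel_mono hW.fromSpec, IsAffineOpen.SpecMap_appLE_fromSpec t hW k.hV hVU]
      exact e0.symm
    exact congrArg CommRingCat.Hom.hom (Spec.map_injective h1)
  intro R' σ
  letI : Algebra Γ(S, W) R' := σ.toAlgebra
  letI : Algebra Γ(S, W) k.R := ρ.toAlgebra
  letI : Algebra Γ(S, W) Γ(Y, k.V) := (k.p1.comp ρ).toAlgebra
  letI : Algebra Γ(S, W) Γ(X, k.U) := (k.p2.comp ρ).toAlgebra
  letI : Algebra Γ(S, W) Γ(Z, i ⁻¹ᵁ k.U) := (k.r2.comp (k.p2.comp ρ)).toAlgebra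
  letI : Algebra Γ(S, W) Γ(Y, t ⁻¹ᵁ W) := (t.app W).hom.toAlgebra
  letI : Algebra Γ(S, W) Γ(Z, j ⁻¹ᵁ (t ⁻¹ᵁ W)) := ((j ≫ t).app W).hom.toAlgebra
  letI : Algebra Γ(Y, t ⁻¹ᵁ W) Γ(Z, j ⁻¹ᵁ (t ⁻¹ᵁ W)) := (j.app (t ⁻¹ᵁ W)).hom.toAlgebra
  have hle : k.V ≤ (𝟙 Y : Y ⟶ Y) ⁻¹ᵁ (t ⁻¹ᵁ W) := hVU
  have hleZ : i ⁻¹ᵁ k.U ≤ (𝟙 Z : Z ⟶ Z) ⁻¹ᵁ (j ⁻¹ᵁ (t ⁻¹ᵁ W)) := fun z hz => by
    rw [k.eq] at hz; exact hVU hz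
  letI : Algebra Γ(Y, t ⁻¹ᵁ W) Γ(Y, k.V) := ((𝟙 Y : Y ⟶ Y).appLE (t ⁻¹ᵁ W) k.V hle).hom.toAlgebra
  letI : Algebra Γ(Z, j ⁻¹ᵁ (t ⁻¹ᵁ W)) Γ(Z, i ⁻¹ᵁ k.U) :=
    ((𝟙 Z : Z ⟶ Z).appLE (j ⁻¹ᵁ (t ⁻¹ᵁ W)) (i ⁻¹ᵁ k.U) hleZ).hom.toAlgebra
  letI : Algebra Γ(Y, k.V) Γ(Z, i ⁻¹ᵁ k.U) := k.r1.toAlgebra
  letI : Algebra Γ(Y, t ⁻¹ᵁ W) Γ(Z, i ⁻¹ᵁ k.U) :=
    (k.r1.comp ((𝟙 Y : Y ⟶ Y).appLE (t ⁻¹ᵁ W) k.V hle).hom).toAlgebra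
  haveI : IsScalarTower Γ(S, W) Γ(Y, t ⁻¹ᵁ W) Γ(Z, j ⁻¹ᵁ (t ⁻¹ᵁ W)) :=
    IsScalarTower.of_algebraMap_eq fun r => rfl
  haveI : IsScalarTower Γ(S, W) Γ(Y, t ⁻¹ᵁ W) Γ(Y, k.V) := IsScalarTower.of_algebraMap_eq fun r => by
    show k.p1.comp ρ r = (t.app W ≫ (𝟙 Y : Y ⟶ Y).appLE (t ⁻¹ᵁ W) k.V hle) r
    rw [hp1]
    simp [Scheme.Hom.appLE]
    rfl
  haveI : IsScalarTower Γ(S, W) Γ(Y, k.V) Γ(Z, i ⁻¹ᵁ k.U) :=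
    IsScalarTower.of_algebraMap_eq fun r => (k.isFib.comm_apply (ρ r)).symm
  haveI : IsScalarTower Γ(Y, t ⁻¹ᵁ W) Γ(Y, k.V) Γ(Z, i ⁻¹ᵁ k.U) := IsScalarTower.of_algebraMap_eq fun r => rfl
  have hpush := isPullback_appLE (m := j) (m' := j) (p := 𝟙 Z) (q := 𝟙 Y)
    (IsPullback.of_horiz_isIso ⟨by simp⟩) (hW.preimage t) k.hV ((hW.preimage t).preimage j) k.hW hle
    rfl k.eq.symm hleZ
  rw [← Scheme.Hom.app_eq_appLE] at hpush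
  haveI : IsScalarTower Γ(Y, t ⁻¹ᵁ W) Γ(Z, j ⁻¹ᵁ (t ⁻¹ᵁ W)) Γ(Z, i ⁻¹ᵁ k.U) :=
    IsScalarTower.of_algebraMap_eq fun r => congrArg (fun f => f r) hpush.w
  haveI : Algebra.IsPushout Γ(Y, t ⁻¹ᵁ W) Γ(Y, k.V) Γ(Z, j ⁻¹ᵁ (t ⁻¹ᵁ W)) Γ(Z, i ⁻¹ᵁ k.U) :=
    CommRingCat.isPushout_iff_isPushout.mp hpush
  haveI : Module.Flat Γ(Y, t ⁻¹ᵁ W) Γ(Y, k.V) :=
    HasRingHomProperty.appLE @Flat (𝟙 Y) inferInstance ⟨_, hW.preimage t⟩ ⟨_, k.hV⟩ hle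
  haveI hproj : Module.Projective Γ(S, W)
      (Γ(Z, j ⁻¹ᵁ (t ⁻¹ᵁ W)) ⧸ Submodule.span Γ(S, W)
        (Set.range (algebraMap Γ(Y, t ⁻¹ᵁ W) Γ(Z, j ⁻¹ᵁ (t ⁻¹ᵁ W))))) := hv ⟨W, hW⟩
  haveI := flat_coker_baseChange (R := Γ(S, W)) (B := Γ(Y, t ⁻¹ᵁ W)) (C := Γ(Z, j ⁻¹ᵁ (t ⁻¹ᵁ W)))
    (B' := Γ(Y, k.V)) (C' := Γ(Z, i ⁻¹ᵁ k.U)) Module.Flat.of_projective
  have hff : k.r1.FaithfullyFlat := by
    have h1 : Flat (sp k.r1) := MorphismProperty.of_isPullback k.isPullback_Zj.flip inferInstance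
    have h2 : Surjective (sp k.r1) :=
      MorphismProperty.of_isPullback (P := @Surjective) k.isPullback_Zj.flip inferInstance
    rw [RingHom.FaithfullyFlat.iff_flat_and_comap_surjective]
    exact ⟨(HasRingHomProperty.Spec_iff (P := @Flat)).mp h1, h2.surj⟩
  exact injective_of_flat_coker
    (ψ1 := IsScalarTower.toAlgHom Γ(S, W) Γ(Y, k.V) Γ(Z, i ⁻¹ᵁ k.U))
    (ψ2 := ({ k.r2 with commutes' := fun r => rfl } : Γ(X, k.U) →ₐ[Γ(S, W)] Γ(Z, i ⁻¹ᵁ k.U)))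
    k.isFib hff.injective

end Groth.L24.PinchBC
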